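import Cfsg.Agent.Lib.BlockStar.Star
import Cfsg.Agent.Lib.BlockSections.Major

/-!
# Orthogonality of the block parts on different sections, and blocks of rank one
-/

set_option autoImplicit false
set_option linter.style.haveILetI false
set_option linter.unusedSectionVars false

noncomputable section

namespace CfsgLib.DihedralBlock

open Cfsg CfsgLib.Blocks CfsgLib.BrauerPairs CfsgLib.CharTheory CfsgLib.BrauerCharacters Finset
open scoped ComplexConjugate

variable {G : Type*} [Group G] [Fintype G] {M : Ideal AlgInt} [M.IsPrime] {p : ℕ} [Fact p.Prime]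

/-- The kernel expressing the part of a restriction in a set of characters. -/
def subKernel {C : Type*} [Group C] [Fintype C] (b : Set (IrrCharacter C)) (a z : C) : ℂ :=
  ∑ ξ ∈ blockFinset b, conj ((ξ : C → ℂ) z) * (ξ : C → ℂ) a

theorem subFun_eq_sum_subKernel (C : Subgroup G) [Fintype C] (b : Set (IrrCharacter C))
    (χ : IrrCharacter G) (a : C) :
    subFun C b χ a =
      (Nat.card C : ℂ)⁻¹ * ∑ z : C, (χ : G → ℂ) z * subKernel b a z := by
  simp only [subFun, coe_subMult, classInner, subKernel, mul_sum, sum_mul]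
  rw [sum_comm]
  exact sum_congr rfl fun z _ => sum_congr rfl fun ξ _ => by ring

theorem secPart_eq_subFun (y : G) [Fintype (Subgroup.centralizer ({y} : Set G))]
    (b : Set (IrrCharacter (Subgroup.centralizer ({y} : Set G)))) (χ : IrrCharacter G)
    (s : Subgroup.centralizer ({y} : Set G)) :
    secPart y b χ s = subFun (Subgroup.centralizer ({y} : Set G)) b χ (cenElem y * s) := rfl

theorem isPPart_inv {g x : G} (h : IsPPart p g x) : IsPPart p g⁻¹ x⁻¹ := by
  obtain ⟨u, hu, hc, hk, hu'⟩ := h
  exact ⟨u⁻¹, by rw [← hu, hc.eq, mul_inv_rev], hc.inv_inv, by rwa [orderOf_inv],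
    by rwa [orderOf_inv]⟩

theorem isPPart_coe_subgroup {C : Subgroup G} {a x : C} (h : IsPPart p a x) :
    IsPPart p (a : G) (x : G) := by
  obtain ⟨u, hu, hc, hk, hu'⟩ := h
  exact ⟨(u : G), congrArg Subtype.val hu, congrArg Subtype.val hc.eq,
    by rwa [Subgroup.orderOf_coe], by rwa [Subgroup.orderOf_coe]⟩

/-- The support of the kernel. -/
theorem isConj_of_subKernel_ne_zero (hM : IsPModular p M) {C : Type*} [Group C] [Fintype C]
    {b : Set (IrrCharacter C)} (hb : IsPBlock M b) {a z x w : C} (ha : IsPPart p a x)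
    (hz : IsPPart p z w) (h : subKernel b a z ≠ 0) : IsConj x w := by
  by_contra hc
  apply h
  rw [← finsum_mul_eq_zero_of_isPBlock hM hb ha hz hc, finsum_mem_eq_sum_blockFinset]
  exact sum_congr rfl fun ξ _ => by rw [conj_apply, mul_comm]

theorem sum_apply_mul_apply [Fintype (IrrCharacter G)] {g h : G} (hgh : ¬ IsConj g h⁻¹) :
    ∑ χ : IrrCharacter G, (χ : G → ℂ) g * (χ : G → ℂ) h = 0 := by
  have := CharTheory.sum_mul_conj g h⁻¹
  rw [if_neg hgh] at this
  rw [← this]
  exact sum_congr rfl fun χ _ => by rw [← conj_apply, Complex.conj_conj]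

/-- A column is orthogonal to the block parts at other sections. -/
theorem sum_apply_mul_secPart_eq_zero [Fintype (IrrCharacter G)] (hM : IsPModular p M) {y : G}
    [Fintype (Subgroup.centralizer ({y} : Set G))] (hy : ∃ k : ℕ, orderOf y = p ^ k)
    {b : Set (IrrCharacter (Subgroup.centralizer ({y} : Set G)))} (hb : IsPBlock M b)
    {s : Subgroup.centralizer ({y} : Set G)} (hs : ¬ p ∣ orderOf s) {g x : G}
    (hx : IsPPart p g x) (hxy : ¬ IsConj x y⁻¹) :
    ∑ χ : IrrCharacter G, (χ : G → ℂ) g * secPart y b χ s = 0 := by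
  classical
  simp only [secPart, coe_resMult, sum_classInner_mul_eq, mul_sum]
  rw [sum_comm]
  refine sum_eq_zero fun z _ => ?_
  by_cases hz : secKernel y b s z = 0
  · exact sum_eq_zero fun χ _ => by rw [hz]; ring
  have hzG : IsPPart p (z : G) y :=
    isPPart_coe_subgroup (isPPart_of_secKernel_ne_zero y b hy hM hb hs hz)
  have h0 := sum_apply_mul_apply (g := g) (h := (z : G)) fun hc => hxy ?_
  · rw [sum_congr rfl (g := fun χ : IrrCharacter G =>
      ((Nat.card (Subgroup.centralizer ({y} : Set G)) : ℂ)⁻¹ * secKernel y b s z) *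
        ((χ : G → ℂ) g * (χ : G → ℂ) z)) fun χ _ => by ring, ← mul_sum, h0, mul_zero]
  · obtain ⟨c, hc⟩ := isConj_iff.1 hc
    have h1 := Blocks.IsPPart.conj hx c
    rw [hc] at h1
    exact isConj_iff.2 ⟨c, Blocks.IsPPart.unique h1 (isPPart_inv hzG)⟩

/-- A part of a restriction is orthogonal to the block parts at other sections. -/
theorem sum_subFun_mul_secPart_eq_zero [Fintype (IrrCharacter G)] (hM : IsPModular p M)
    (C : Subgroup G) [Fintype C] {b' : Set (IrrCharacter C)} (hb' : IsPBlock M b') {a x : C}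
    (hax : IsPPart p a x) {y : G} [Fintype (Subgroup.centralizer ({y} : Set G))]
    (hy : ∃ k : ℕ, orderOf y = p ^ k)
    {b : Set (IrrCharacter (Subgroup.centralizer ({y} : Set G)))} (hb : IsPBlock M b)
    {s : Subgroup.centralizer ({y} : Set G)} (hs : ¬ p ∣ orderOf s)
    (hxy : ¬ IsConj (x : G) y⁻¹) :
    ∑ χ : IrrCharacter G, subFun C b' χ a * secPart y b χ s = 0 := by
  classical
  simp only [subFun_eq_sum_subKernel, mul_sum, sum_mul]
  rw [sum_comm]
  refine sum_eq_zero fun z _ => ?_
  by_cases hz : subKernel b' a z = 0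
  · exact sum_eq_zero fun χ _ => by rw [hz]; ring
  obtain ⟨w, hw⟩ := exists_isPPart p z
  have hconj := isConj_of_subKernel_ne_zero hM hb' hax hw hz
  have h0 := sum_apply_mul_secPart_eq_zero hM hy hb hs (isPPart_coe_subgroup hw)
    fun hc => hxy ((MonoidHom.map_isConj C.subtype hconj).trans hc)
  rw [sum_congr rfl (g := fun χ : IrrCharacter G =>
    ((Nat.card C : ℂ)⁻¹ * subKernel b' a z) * ((χ : G → ℂ) z * secPart y b χ s))
    fun χ _ => by ring, ← mul_sum, h0, mul_zero]

/-- Parts of different blocks on a section have orthogonal columns. -/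
theorem sum_secPart_mul_conj_eq_zero_of_ne [Fintype (IrrCharacter G)] (hM : IsPModular p M) {y : G}
    [Fintype (Subgroup.centralizer ({y} : Set G))] (hy : ∃ k : ℕ, orderOf y = p ^ k)
    {b b' : Set (IrrCharacter (Subgroup.centralizer ({y} : Set G)))} (hb : IsPBlock M b)
    (hb' : IsPBlock M b') (hne : b ≠ b') {s t : Subgroup.centralizer ({y} : Set G)}
    (hs : ¬ p ∣ orderOf s) (ht : ¬ p ∣ orderOf t) :
    ∑ χ : IrrCharacter G, secPart y b χ s * conj (secPart y b' χ t) = 0 := by
  classical
  haveI := Fintype.ofFinite (IrrCharacter (Subgroup.centralizer ({y} : Set G)))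
  set n := (Nat.card ↥(Subgroup.centralizer ({y} : Set G)) : ℂ)⁻¹
  have hG : ∀ (χ : IrrCharacter G) (β : Set (IrrCharacter ↥(Subgroup.centralizer ({y} : Set G)))) (u : ↥(Subgroup.centralizer ({y} : Set G))),
      secPart y β χ u = n * ∑ z : ↥(Subgroup.centralizer ({y} : Set G)), (χ : G → ℂ) z * secKernel y β u z := fun χ β u => by
    simp only [secPart, coe_resMult]
    exact sum_classInner_mul_eq y β _ u
  have hC : ∀ (η : IrrCharacter ↥(Subgroup.centralizer ({y} : Set G))) (β : Set (IrrCharacter ↥(Subgroup.centralizer ({y} : Set G)))) (u : ↥(Subgroup.centralizer ({y} : Set G))),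
      n * ∑ z : ↥(Subgroup.centralizer ({y} : Set G)), (η : ↥(Subgroup.centralizer ({y} : Set G)) → ℂ) z * secKernel y β u z =
        if η ∈ β then (η : ↥(Subgroup.centralizer ({y} : Set G)) → ℂ) (cenElem y * u) else 0 := fun η β u => by
    rw [← sum_classInner_mul_eq y β _ u, sum_congr rfl (g := fun ξ : IrrCharacter ↥(Subgroup.centralizer ({y} : Set G)) =>
      if η = ξ then (ξ : ↥(Subgroup.centralizer ({y} : Set G)) → ℂ) (cenElem y * u) else 0) (fun ξ _ => by
        rw [classInner_irrCharacter]; split_ifs <;> simp), sum_ite_eq]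
    simp only [mem_blockFinset]
  have key : ∀ (ι : Type _) [Fintype ι] (F : ι → ↥(Subgroup.centralizer ({y} : Set G)) → ℂ),
      ∑ i, (n * ∑ z, F i z * secKernel y b s z) * conj (n * ∑ w, F i w * secKernel y b' t w) =
        ∑ z, ∑ w, n * secKernel y b s z * conj (n * secKernel y b' t w) *
          ∑ i, F i z * conj (F i w) := by
    intro ι _ F
    rw [sum_congr rfl (g := fun i => ∑ z, ∑ w,
        (n * (F i z * secKernel y b s z)) * conj (n * (F i w * secKernel y b' t w))) fun i _ => by
      rw [mul_sum, mul_sum, map_sum, sum_mul_sum]]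
    simp only [mul_sum, map_mul]
    rw [sum_comm]
    refine sum_congr rfl fun z _ => ?_
    rw [sum_comm]
    exact sum_congr rfl fun w _ => sum_congr rfl fun i _ => by ring
  simp only [hG]
  rw [key (IrrCharacter G) (fun χ z => (χ : G → ℂ) z)]
  calc ∑ z, ∑ w, n * secKernel y b s z * conj (n * secKernel y b' t w) *
        ∑ χ : IrrCharacter G, (χ : G → ℂ) z * conj ((χ : G → ℂ) w)
      = ∑ η : IrrCharacter ↥(Subgroup.centralizer ({y} : Set G)), (n * ∑ z, (η : ↥(Subgroup.centralizer ({y} : Set G)) → ℂ) z * secKernel y b s z) *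
          conj (n * ∑ w, (η : ↥(Subgroup.centralizer ({y} : Set G)) → ℂ) w * secKernel y b' t w) := by
        rw [key (IrrCharacter ↥(Subgroup.centralizer ({y} : Set G))) (fun η z => (η : ↥(Subgroup.centralizer ({y} : Set G)) → ℂ) z)]
        refine sum_congr rfl fun z _ => sum_congr rfl fun w _ => ?_
        by_cases hz : secKernel y b s z = 0
        · simp [hz]
        by_cases hw : secKernel y b' t w = 0
        · simp [hw]
        rw [sum_irr_eq_of_isPPart y (isPPart_of_secKernel_ne_zero y b hy hM hb hs hz)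
          (isPPart_of_secKernel_ne_zero y b' hy hM hb' ht hw)]
    _ = 0 := sum_eq_zero fun η _ => by
        rw [hC, hC]
        by_cases h1 : η ∈ b
        · rw [if_neg fun h2 => hne (isPBlock_eq_of_mem hb hb' h1 h2)]
          simp
        · rw [if_neg h1, zero_mul]

/-- In a block of rank one all characters agree on the regular elements up to a factor. -/
theorem exists_coeff_of_rank_one {C : Type*} [Group C] [Fintype C] {b : Set (IrrCharacter C)}
    (h1 : blockRank p b = 1) {ρ : IrrCharacter C} (hρ : ρ ∈ b) (ξ : IrrCharacter C)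
    (hξ : ξ ∈ b) :
    ∃ d : ℂ, ∀ s : C, ¬ p ∣ orderOf s → (ξ : C → ℂ) s = d * (ρ : C → ℂ) s := by
  set W := Submodule.span ℂ ((fun χ : IrrCharacter C => pRegularPart p (χ : C → ℂ)) '' b)
  have hmem : ∀ η ∈ b, pRegularPart p ((η : IrrCharacter C) : C → ℂ) ∈ W := fun η hη =>
    Submodule.subset_span ⟨η, hη, rfl⟩
  have hne : (⟨_, hmem ρ hρ⟩ : W) ≠ 0 := fun e => by
    have e1 := congrFun (congrArg Subtype.val e) 1
    simp only [pRegularPart_apply, orderOf_one, if_neg (Fact.out : p.Prime).not_dvd_one] at e1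
    exact apply_one_ne_zero_of_isIrr ρ.2 (by simpa using e1)
  obtain ⟨d, hd⟩ := (finrank_eq_one_iff_of_nonzero' (⟨_, hmem ρ hρ⟩ : W) hne).1 h1 ⟨_, hmem ξ hξ⟩
  refine ⟨d, fun s hs => ?_⟩
  have := congrFun (congrArg Subtype.val hd) s
  simp only [Submodule.coe_smul, Pi.smul_apply, pRegularPart_apply, if_neg hs, smul_eq_mul] at this
  exact this.symm

/-- For a central element the part at it is a multiple of the part at the identity. -/
theorem exists_subFun_eq_mul (C : Subgroup G) [Fintype C] {b : Set (IrrCharacter C)}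
    (h1 : blockRank p b = 1) {ρ : IrrCharacter C} (hρ : ρ ∈ b) (χ : IrrCharacter G) {y : C}
    (hy : ∀ c : C, Commute y c) :
    ∃ L : ℂ, ∀ s : C, ¬ p ∣ orderOf s → subFun C b χ (y * s) = L * (ρ : C → ℂ) s := by
  classical
  choose! d hd using fun ξ (hξ : ξ ∈ b) => exists_coeff_of_rank_one h1 hρ ξ hξ
  refine ⟨∑ ξ ∈ blockFinset b, (subMult C χ ξ : ℂ) * centralVal (ξ : C → ℂ) y * d ξ,
    fun s hs => ?_⟩
  rw [subFun, sum_mul]
  refine sum_congr rfl fun ξ hξ => ?_
  rw [(centralVal_spec ξ hy).2 s, hd ξ (mem_blockFinset.1 hξ) s hs]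
  ring

/-- Orthogonal columns at the singular elements bound the rank. -/
theorem blockRank_add_le {B : Set (IrrCharacter G)} {κ : Type*} [Fintype κ]
    (w : κ → IrrCharacter G → ℂ)
    (hreg : ∀ i, ∀ g : G, ¬ p ∣ orderOf g →
      ∑ χ ∈ blockFinset B, (χ : G → ℂ) g * w i χ = 0)
    (horth : ∀ i j, i ≠ j → ∑ χ ∈ blockFinset B, w i χ * w j χ = 0)
    (hnorm : ∀ i, ∑ χ ∈ blockFinset B, w i χ * w i χ ≠ 0) :
    blockRank p B + Fintype.card κ ≤ Nat.card B := by
  classical
  let T : (blockFinset B → ℂ) →ₗ[ℂ] (G → ℂ) :=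
    Fintype.linearCombination ℂ fun χ : blockFinset B => pRegularPart p ((χ : IrrCharacter G) : G → ℂ)
  have hrange : LinearMap.range T =
      Submodule.span ℂ ((fun χ : IrrCharacter G => pRegularPart p (χ : G → ℂ)) '' B) := by
    rw [Fintype.range_linearCombination]
    congr 1
    ext f
    simp [Subtype.exists]
  let v : κ → LinearMap.ker T := fun i => ⟨fun χ => w i χ, by
    rw [LinearMap.mem_ker]
    funext g
    simp only [T, Fintype.linearCombination_apply, Finset.sum_apply, Pi.smul_apply, smul_eq_mul,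
      pRegularPart_apply, Pi.zero_apply]
    by_cases hg : p ∣ orderOf g
    · simp [hg]
    · simp only [if_neg hg]
      rw [sum_coe_sort (blockFinset B) (fun χ => w i χ * (χ : G → ℂ) g), ← hreg i g hg]
      exact sum_congr rfl fun χ _ => mul_comm _ _⟩
  have hv : LinearIndependent ℂ v := by
    rw [Fintype.linearIndependent_iff]
    intro c hc j
    have h2 := congrArg (fun f : LinearMap.ker T =>
      ∑ χ : blockFinset B, (f : blockFinset B → ℂ) χ * w j χ) hc
    simp only [v, Submodule.coe_sum, Finset.sum_apply, Submodule.coe_smul, Pi.smul_apply,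
      smul_eq_mul, ZeroMemClass.coe_zero, Pi.zero_apply, zero_mul, sum_const_zero, sum_mul] at h2
    rw [sum_comm, sum_eq_single_of_mem j (mem_univ j) fun i _ hij => ?_] at h2
    · rw [sum_congr rfl (g := fun χ : blockFinset B => c j * (w j χ * w j χ))
        (fun χ _ => mul_assoc _ _ _), ← mul_sum,
        sum_coe_sort (blockFinset B) (fun χ => w j χ * w j χ), mul_eq_zero] at h2
      exact h2.resolve_right (hnorm j)
    · rw [sum_congr rfl (g := fun χ : blockFinset B => c i * (w i χ * w j χ))
        (fun χ _ => mul_assoc _ _ _), ← mul_sum,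
        sum_coe_sort (blockFinset B) (fun χ => w i χ * w j χ), horth i j hij, mul_zero]
  have h1 := T.finrank_range_add_finrank_ker
  rw [hrange, Module.finrank_fintype_fun_eq_card, Fintype.card_coe, card_blockFinset] at h1
  have h3 := hv.fintype_card_le_finrank
  rw [blockRank]
  omega

end CfsgLib.DihedralBlock
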